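import Groth.Agent.LcCxLib.LBaseRgamma
import Groth.Agent.S1814
import Groth.Agent.DRingLib.RgammaCompletion

/-!
When a coreflection computes cohomology in low degrees, and the completion of a coreflection.
-/

set_option autoImplicit false
set_option linter.style.haveILetI false
set_option maxHeartbeats 800000

universe u

open CategoryTheory CategoryTheory.Limits LocCoh
open CategoryTheory.Pretriangulated (Triangle)

attribute [local instance] HasDerivedCategory.standard

noncomputable section

namespace LcAlgLib

open Groth.Agent Groth.Agent.DRingLib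
open Groth.Agent.DCompLib (resM extM resD extD φA)

variable {A : Type u} [CommRing A] [IsNoetherianRing A]

/-- The coreflection of an object with torsion cohomology up to `s` agrees with it up to `s`. -/
theorem bijective_hn_coref (l : List A) (s : ℤ) {R X : Dual.D A} {u : R ⟶ X} (hu : IsCoref l u)
    (h : ∀ g ∈ l, ∀ i, i ≤ s → IsTorsM g (Dual.HD A X i)) (i : ℤ) (hi : i ≤ s) :
    Function.Bijective ((hF A i).map u).hom := by
  have key : ∀ m : List A, (∀ g ∈ m, g ∈ l) → ∃ (R' : Dual.D A) (u' : R' ⟶ X), IsCoref m u' ∧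
      ∀ j, j ≤ s → IsIso ((hF A j).map u') := by
    intro m hm
    induction m with
    | nil =>
      exact ⟨X, 𝟙 X, isCoref_id fun g hg => absurd hg List.not_mem_nil, fun j _ => by
        rw [CategoryTheory.Functor.map_id]; infer_instance⟩
    | cons g m ih =>
      obtain ⟨R, u, hu, hiso⟩ := ih fun g' hg' => hm g' (List.mem_cons_of_mem _ hg')
      obtain ⟨R', v, q, hv⟩ := Pretriangulated.distinguished_cocone_triangle₁ (toLocD g R)
      have hZ : ∀ j, j ≤ s → IsZero ((hF A j).obj ((locD g).obj R)) := fun j hj => by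
        haveI := hiso j hj
        haveI := isLocalizedModule_HD_toLocD (g := g) R j
        refine @ModuleCat.isZero_of_subsingleton _ _ _ (subsingleton_of_forall_eq 0 fun y => ?_)
        obtain ⟨⟨x, ⟨_, n, rfl⟩⟩, hn⟩ :=
          IsLocalizedModule.surj (Submonoid.powers g) ((hF A j).map (toLocD g R)).hom y
        obtain ⟨k, hk⟩ := h g (hm g List.mem_cons_self) j hj (((hF A j).map u).hom x)
        have hk' : g ^ k • x = 0 := (asIso ((hF A j).map u)).toLinearEquiv.injective
          ((map_smul _ _ _).trans (hk.trans (map_zero _).symm))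
        refine IsLocalizedModule.smul_injective ((hF A j).map (toLocD g R)).hom
          (⟨g ^ (k + n), k + n, rfl⟩ : Submonoid.powers g) ?_
        show g ^ (k + n) • y = g ^ (k + n) • 0
        rw [smul_zero, pow_add, mul_smul, show g ^ n • y = ((hF A j).map (toLocD g R)).hom x from hn, ← map_smul, hk',
          map_zero]
      refine ⟨R', v ≫ u, isCoref_step hu hv, fun j hj => ?_⟩
      haveI := hiso j hj
      have := (DerivedCategory.HomologySequence.mono_homologyMap_mor₁_iff _ hv (j - 1) j
        (by omega)).mpr ((hZ (j - 1) (by omega)).eq_of_src _ _)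
      have := (DerivedCategory.HomologySequence.epi_homologyMap_mor₁_iff _ hv j).mpr
        ((hZ j hj).eq_of_tgt _ _)
      haveI : IsIso ((hF A j).map v) := isIso_of_mono_of_epi ((hF A j).map (Triangle.mk v (toLocD g R) q).mor₁)
      rw [Functor.map_comp]
      infer_instance
  obtain ⟨R', u', hu', hiso⟩ := key l fun g hg => hg
  obtain ⟨e, he⟩ := hu.exists_iso hu'
  haveI := hiso i hi
  rw [← he, Functor.map_comp]
  exact (ConcreteCategory.isIso_iff_bijective _).1 inferInstance

theorem compat_extM (g a : A) :
    haveI : IsNoetherianRing (Localization.Away g) := isNoetherianRing_away g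
    LcCxLib.Compat (extM g) a (φA g a) := by
  constructor
  · intro M hM z
    obtain ⟨n, hn⟩ := isTorsM_extM g hM z
    refine ⟨n, ?_⟩
    rw [← map_pow]
    exact hn
  · intro M hM
    haveI : IsIso (a • 𝟙 M) := (ConcreteCategory.isIso_iff_bijective _).2 (by
      rw [show ⇑(ConcreteCategory.hom (a • 𝟙 M)) = fun x : M => a • x from funext fun x => rfl]
      exact hM)
    haveI : IsIso ((extM g).map (a • 𝟙 M)) := inferInstance
    rw [LcCxLib.extend_map_smul_id] at this
    exact (ConcreteCategory.isIso_iff_bijective _).1 this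

/-- If `g a` is torsion on the low cohomology for all `a ∈ l`, and `g` is torsion on the coreflection,
then `g` is torsion on the low cohomology. -/
theorem isTorsM_of_mul (l : List A) (g : A) (s : ℤ) {R Y : Dual.D A} {u : R ⟶ Y} (hu : IsCoref l u)
    (hR : ∀ i, IsTorsM g (Dual.HD A R i))
    (h : ∀ a ∈ l, ∀ i, i ≤ s → IsTorsM (g * a) (Dual.HD A Y i)) (i : ℤ) (hi : i ≤ s) :
    IsTorsM g (Dual.HD A Y i) := by
  let B := Localization.Away g
  haveI : IsNoetherianRing B := isNoetherianRing_away g
  let ψ := φA g
  let L : List (A × B) := l.map fun a => (a, ψ a)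
  have hL : ∀ p ∈ L, LcCxLib.Compat (extM g) p.1 p.2 := fun p hp => by
    obtain ⟨a, -, rfl⟩ := List.mem_map.1 hp
    exact compat_extM g a
  obtain ⟨R₁, u₁, hu₁, hu₁'⟩ := LcCxLib.isCoref_map_exists (extM g) L hL Y
  have hfst : L.map Prod.fst = l := by simp [L, Function.comp_def]
  rw [hfst] at hu₁
  obtain ⟨e, -⟩ := hu₁.exists_iso hu
  have hz : IsZero ((extD g).obj R₁) :=
    (isZero_extD_of_tors g hR).of_iso ((extD g).mapIso e)
  obtain ⟨c⟩ := exists_homology_iso_mapDerived (extM g) Y i
  have hb := bijective_hn_coref (L.map Prod.snd) s hu₁' (fun b hb j hj => by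
    obtain ⟨p, hp, rfl⟩ := List.mem_map.1 hb
    obtain ⟨a, ha, rfl⟩ := List.mem_map.1 hp
    obtain ⟨c'⟩ := exists_homology_iso_mapDerived (extM g) Y j
    have h1 : IsTorsM (ψ (g * a)) ((extM g).obj ((hF A j).obj Y)) :=
      (compat_extM g (g * a)).tors _ (h a ha j hj)
    refine isTorsM_of_surjective c'.inv c'.symm.toLinearEquiv.surjective (fun x => ?_)
    obtain ⟨n, hn⟩ := h1 x
    refine ⟨n, ((IsLocalization.map_units B (⟨g ^ n, n, rfl⟩ : Submonoid.powers g)).smul_eq_zero).1 ?_⟩
    show ψ (g ^ n) • (ψ a ^ n • x) = 0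
    rw [← mul_smul, map_pow, ← mul_pow, ← map_mul]
    exact hn) i hi
  haveI : Subsingleton ((hF B i).obj ((extD g).obj R₁)) :=
    ModuleCat.subsingleton_of_isZero ((hF B i).map_isZero hz)
  haveI : Subsingleton ((hF B i).obj ((extD g).obj Y)) := hb.surjective.subsingleton
  have hz' : IsZero ((extM g).obj ((hF A i).obj Y)) :=
    (ModuleCat.isZero_of_subsingleton ((hF B i).obj ((extD g).obj Y))).of_iso c.symm
  exact tors_of_isZero_extM g hz'

variable {I : Ideal A} [DRing.HasDerivedCompletion I]

/-- The completion functor is linear on identities. -/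
theorem cF_map_smul_id (g : A) (X : Dual.D A) : (cF I).map (g • 𝟙 X) = g • 𝟙 _ := by
  refine ((DCompLib.isRefl_unit X).2 _ ((DRing.derivedCompletion I).obj X).property).1 ?_
  show DRing.toDerivedCompletion I X ≫ (cF I).map (g • 𝟙 X) = DRing.toDerivedCompletion I X ≫ (g • 𝟙 _)
  refine ((DRing.derivedCompletionAdj I).unit.naturality (g • 𝟙 X)).symm.trans ?_
  show (g • 𝟙 X) ≫ DRing.toDerivedCompletion I X = _
  rw [Linear.smul_comp, Category.id_comp, Linear.comp_smul]
  exact congrArg (g • ·) (Category.comp_id _).symm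

/-- Completion preserves the bijectivity of coreflections. -/
theorem exists_coref_cF (l : List A) (X : Dual.D A) :
    ∃ (R : Dual.D A) (u : R ⟶ X), IsCoref l u ∧
      ∀ T, IsTors l T → Function.Bijective fun t : T ⟶ (cF I).obj R => t ≫ (cF I).map u := by
  induction l with
  | nil =>
    refine ⟨X, 𝟙 X, isCoref_id fun g hg => absurd hg List.not_mem_nil, fun T _ => ?_⟩
    simp only [CategoryTheory.Functor.map_id, Category.comp_id]
    exact Function.bijective_id
  | cons g l ih =>
    obtain ⟨R, u, hu, hu'⟩ := ih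
    obtain ⟨R', v, q, hv⟩ := Pretriangulated.distinguished_cocone_triangle₁ (toLocD g R)
    refine ⟨R', v ≫ u, isCoref_step hu hv, fun T hT => ?_⟩
    obtain ⟨δ, hD⟩ := exists_cF_triangle (I := I) hv
    let W := (cF I).obj ((locD g).obj R)
    haveI : IsIso (g • 𝟙 ((locD g).obj R)) := by
      rw [DerivedCategory.isIso_iff]
      intro i
      rw [ConcreteCategory.isIso_iff_bijective]
      exact (funext fun x => Groth.Agent.DCompLib.map_smul_id g _ i x :
        (⇑((DerivedCategory.homologyFunctor (ModuleCat.{u} A) i).map (g • 𝟙 ((locD g).obj R))).hom) =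
          fun x => g • x) ▸ LcCxLib.isBij_locD g R i
    have hW : IsIso (g • 𝟙 W) := by
      rw [← cF_map_smul_id]
      infer_instance
    haveI := LcCxLib.isIso_toLocD g W fun i => by
      have := (ConcreteCategory.isIso_iff_bijective
        ((DerivedCategory.homologyFunctor (ModuleCat.{u} A) i).map (g • 𝟙 W))).1 inferInstance
      show Function.Bijective _
      convert this using 1
      exact funext fun x => (Groth.Agent.DCompLib.map_smul_id g _ i x).symm
    let eW : W ≅ (resD g).obj ((extD g).obj W) := asIso (toLocD g W)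
    let D := Triangle.mk ((cF I).map v) ((cF I).map (toLocD g R)) δ
    let D' : Triangle (Dual.D A) := Triangle.mk D.mor₁ (D.mor₂ ≫ eW.hom) (eW.inv ≫ D.mor₃)
    have hD' : D' ∈ distTriang (Dual.D A) := by
      refine Pretriangulated.isomorphic_distinguished _ hD _
        (Triangle.isoMk _ _ (Iso.refl _) (Iso.refl _) eW.symm ?_ ?_ ?_)
      · exact (Category.comp_id _).trans (Category.id_comp _).symm
      · exact ((Category.assoc _ _ _).trans (congrArg (D.mor₂ ≫ ·) eW.hom_inv_id)).trans
          ((Category.comp_id _).trans (Category.id_comp _).symm)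
      · change (eW.inv ≫ D.mor₃) ≫ (shiftFunctor _ (1 : ℤ)).map (𝟙 _) = eW.inv ≫ D.mor₃
        rw [CategoryTheory.Functor.map_id]
        exact Category.comp_id _
    have hb := bijective_comp_of_loc (g := g) (l := g :: l) List.mem_cons_self hD' hT
    have h3 := (hu' T fun g' hg' => hT g' (List.mem_cons_of_mem g hg')).comp hb
    have heq : (fun t : T ⟶ (cF I).obj R' => t ≫ (cF I).map (v ≫ u)) =
        (fun t => t ≫ (cF I).map u) ∘ (fun t : T ⟶ (cF I).obj R' => t ≫ (cF I).map v) :=
      funext fun t => by
        show t ≫ (cF I).map (v ≫ u) = (t ≫ (cF I).map v) ≫ (cF I).map u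
        rw [Functor.map_comp, Category.assoc]
    rw [heq]
    exact h3

/-- For a complete object, the coreflection of the completed coreflection is the coreflection. -/
theorem bijective_hn_unit (l : List A) {R X : Dual.D A} {u : R ⟶ X} (hu : IsCoref l u)
    (hX : DRing.IsDerivedComplete I X) (s : ℤ)
    (h : ∀ g ∈ l, ∀ i, i ≤ s → IsTorsM g (Dual.HD A ((cF I).obj R) i)) (i : ℤ) (hi : i ≤ s) :
    Function.Bijective ((hF A i).map (DRing.toDerivedCompletion I R)).hom := by
  obtain ⟨R₁, u₁, hu₁, hu₁'⟩ := exists_coref_cF (I := I) l X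
  obtain ⟨e, he⟩ := hu.exists_iso hu₁
  have hX' : DCompLib.IsRefl I (𝟙 X) := ⟨hX, fun Y _ => by simp only [Category.id_comp]; exact Function.bijective_id⟩
  obtain ⟨c, hc⟩ := exists_iso_cF hX'
  rw [Category.id_comp] at hc
  refine bijective_hn_coref l s ⟨hu.1, fun T hT => ?_⟩ h i hi
  have hn : DRing.toDerivedCompletion I R ≫ (cF I).map u = u ≫ c.hom :=
    ((DRing.derivedCompletionAdj I).unit.naturality u).symm.trans (congrArg (u ≫ ·) hc.symm)
  have hbu : Function.Bijective fun t : T ⟶ (cF I).obj R => t ≫ (cF I).map u := by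
    have := (hu₁' T hT).comp (((cF I).mapIso e).homToEquiv (Z := T)).bijective
    convert this using 1
    funext t
    simp only [Function.comp_apply, Iso.homToEquiv, Equiv.coe_fn_mk, Functor.mapIso_hom, Category.assoc,
      ← Functor.map_comp, he]
  refine (Function.Bijective.of_comp_iff' hbu _).1 ?_
  have := (c.homToEquiv (Z := T)).bijective.comp (hu.2 T hT)
  convert this using 1
  funext t
  simp only [Function.comp_apply, Iso.homToEquiv, Equiv.coe_fn_mk, Category.assoc, hn]

end LcAlgLib

end
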