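import Groth.Agent.LcAlgLib.Prime
import Groth.Agent.LcAlgLib.Stable
import Groth.Agent.S1816

/-!
Algebraization of local cohomology with supports in the closed point.
-/

set_option autoImplicit false
set_option linter.style.haveILetI false
set_option maxHeartbeats 1600000

universe u

open CategoryTheory CategoryTheory.Limits LocCoh

attribute [local instance] HasDerivedCategory.standard

noncomputable section

namespace LcAlgLib

open Groth.Agent Groth.Agent.DRingLib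

variable {A : Type u} [CommRing A]

/-- The elements which are power torsion on the low cohomology. -/
def torsIdeal (s : ℤ) (Y : Dual.D A) : Ideal A :=
  ⨅ (i : {i : ℤ // i ≤ s}) (x : Dual.HD A Y i), (Submodule.span A {x}).annihilator.radical

theorem mem_torsIdeal_iff (s : ℤ) (Y : Dual.D A) (g : A) :
    g ∈ torsIdeal s Y ↔ ∀ i, i ≤ s → IsTorsM g (Dual.HD A Y i) := by
  simp only [torsIdeal, Ideal.mem_iInf, Subtype.forall]
  refine forall_congr' fun i => forall_congr' fun _ => forall_congr' fun x => ?_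
  refine exists_congr fun n => ?_
  exact Submodule.mem_annihilator_span_singleton _ _

theorem radical_torsIdeal (s : ℤ) (Y : Dual.D A) : (torsIdeal s Y).radical ≤ torsIdeal s Y := by
  intro g hg
  obtain ⟨k, hk⟩ := hg
  rw [mem_torsIdeal_iff] at hk ⊢
  intro i hi x
  obtain ⟨n, hn⟩ := hk i hi x
  exact ⟨k * n, by rw [pow_mul]; exact hn⟩

variable [IsNoetherianRing A]

/-- Torsion cohomology for every element of the ideal. -/
theorem isTorsM_RgammaI (J : Ideal A) [DRing.HasRgammaI J] (X : Dual.D A) {g : A} (hg : g ∈ J) (i : ℤ) :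
    IsTorsM g (Dual.HD A ((DRing.RgammaI J).obj X) i) := fun x => by
  obtain ⟨l, hl⟩ := exists_list_span' J
  obtain ⟨n, hn⟩ := (isTors_iff l _).1 (isCoref_RgammaIε l J hl X).1 i x
  exact ⟨n, hn _ (Ideal.pow_mem_pow (hl.symm ▸ hg) n)⟩

/-- `RΓ` only depends on the radical. -/
theorem nonempty_RgammaI_iso {J J' : Ideal A} [DRing.HasRgammaI J] [DRing.HasRgammaI J'] (h : J ≤ J'.radical)
    (h' : J' ≤ J.radical) (X : Dual.D A) :
    Nonempty ((DRing.RgammaI J).obj X ≅ (DRing.RgammaI J').obj X) := by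
  obtain ⟨l, hl⟩ := exists_list_span' J
  obtain ⟨l', hl'⟩ := exists_list_span' J'
  have key : ∀ {m m' : List A} {K K' : Ideal A}, Ideal.span {a | a ∈ m} = K → Ideal.span {a | a ∈ m'} = K' →
      K ≤ K'.radical → ∀ T : Dual.D A, IsTors m' T → IsTors m T := by
    intro m m' K K' hm hm' hK T hT g hg i x
    have hgK : g ∈ K := by rw [← hm]; exact Ideal.subset_span hg
    obtain ⟨n, hn⟩ := hK hgK
    obtain ⟨k, hk⟩ := (isTors_iff m' T).1 hT i x
    refine ⟨n * k, ?_⟩
    rw [pow_mul]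
    exact hk _ (Ideal.pow_mem_pow (hm'.symm ▸ hn) k)
  have h1 := isCoref_RgammaIε l J hl X
  have h2 := isCoref_RgammaIε l' J' hl' X
  obtain ⟨e, -⟩ := h1.exists_iso (u' := (DRing.RgammaIε J').app X)
    ⟨key hl hl' h _ h2.1, fun T hT => h2.2 T (key hl' hl h' T hT)⟩
  exact ⟨e⟩

variable {I : Ideal A} [DRing.HasDerivedCompletion I]

/-- The completion of `RΓ_J` only depends on `V(J + I)`. -/
theorem nonempty_completion_iso (J m : Ideal A) [DRing.HasRgammaI J] [DRing.HasRgammaI m]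
    (h : J ⊔ I ≤ (m ⊔ I).radical) (h' : m ⊔ I ≤ (J ⊔ I).radical) (X : Dual.D A) :
    Nonempty ((cF I).obj ((DRing.RgammaI J).obj X) ≅ (cF I).obj ((DRing.RgammaI m).obj X)) := by
  haveI : DRing.HasRgammaI I :=
    DerLib.KInjDerived.hasRightDerivedFunctor _ (DerLib.KInjDerived.enoughKInj _)
  haveI : DRing.HasRgammaI (J ⊔ I) :=
    DerLib.KInjDerived.hasRightDerivedFunctor _ (DerLib.KInjDerived.enoughKInj _)
  haveI : DRing.HasRgammaI (m ⊔ I) :=
    DerLib.KInjDerived.hasRightDerivedFunctor _ (DerLib.KInjDerived.enoughKInj _)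
  obtain ⟨a1⟩ := (Groth.Agent.S1814.result A I ((DRing.RgammaI J).obj X)).2
  obtain ⟨a2⟩ := Groth.Agent.S1816.result A J I X
  obtain ⟨b1⟩ := (Groth.Agent.S1814.result A I ((DRing.RgammaI m).obj X)).2
  obtain ⟨b2⟩ := Groth.Agent.S1816.result A m I X
  obtain ⟨c⟩ := nonempty_RgammaI_iso h h' X
  exact ⟨(ObjectProperty.ι _).mapIso (a1.symm ≪≫ (DRing.derivedCompletion I).mapIso (a2 ≪≫ c ≪≫ b2.symm) ≪≫ b1)⟩

variable [IsLocalRing A]

/-- The torsion ideal is large enough. -/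
theorem eq_maximalIdeal_of_torsIdeal_le [IsAdicComplete I A] [DRing.HasRgammaI (IsLocalRing.maximalIdeal A)]
    (hdc : ∃ ω : Dual.D A, Dual.IsDualizing A ω) (M : Type u) [AddCommGroup M] [Module A M] [Module.Finite A M]
    (s d : ℕ) (hd : LocCoh.CdLE A I d)
    (h4 : ∀ p : PrimeSpectrum A, ¬ I ≤ p.asIdeal →
      (∃ r : PrimeSpectrum A, p ≤ r ∧ I ≤ r.asIdeal ∧ r.asIdeal ≠ IsLocalRing.maximalIdeal A) →
      (s : ℕ∞) ≤ LocCoh.depth (Localization.AtPrime p.asIdeal) (LocalizedModule p.asIdeal.primeCompl M) ∨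
        (((d + s : ℕ) : ℕ∞) : WithBot ℕ∞) < ((LocCoh.depth (Localization.AtPrime p.asIdeal)
          (LocalizedModule p.asIdeal.primeCompl M) : ℕ∞) : WithBot ℕ∞) + ringKrullDim (A ⧸ p.asIdeal))
    (r : PrimeSpectrum A) (hIr : I ≤ r.asIdeal)
    (hr : torsIdeal (s : ℤ) ((cF I).obj ((DRing.RgammaI (IsLocalRing.maximalIdeal A)).obj (Dual.inD A M))) ≤ r.asIdeal) :
    r.asIdeal = IsLocalRing.maximalIdeal A := by
  by_contra hrm
  haveI : DRing.HasRgammaI I :=
    DerLib.KInjDerived.hasRightDerivedFunctor _ (DerLib.KInjDerived.enoughKInj _)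
  set X₀ := (DRing.RgammaI (IsLocalRing.maximalIdeal A)).obj (Dual.inD A M)
  set Y := (cF I).obj X₀
  set L := torsIdeal (s : ℤ) Y with hL
  obtain ⟨P, hP, hPr⟩ := Ideal.exists_minimalPrimes_le hr
  haveI := hP.1.1
  have hPI : I ≤ P := by
    by_contra hPI
    obtain ⟨f, hfP, hf⟩ := exists_notMem_smul_completion I hdc M s d hd ⟨P, hP.1.1⟩ fun Q hQ =>
      ⟨⟨r, le_trans hQ hPr, hIr, hrm⟩,
        h4 Q (fun h => hPI (h.trans hQ)) ⟨r, le_trans hQ hPr, hIr, hrm⟩⟩
    exact hfP (hP.1.2 ((mem_torsIdeal_iff (s : ℤ) Y f).2 fun i hi x => ⟨1, by rw [pow_one]; exact hf i hi x⟩))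
  classical
  let S := (Ideal.finite_minimalPrimes_of_isNoetherianRing A L).toFinset.erase P
  let K := S.inf id ⊓ IsLocalRing.maximalIdeal A
  have hK : ¬ K ≤ P := fun h => by
    rcases (Ideal.IsPrime.inf_le hP.1.1).1 h with h | h
    · obtain ⟨Q, hQ, hQP⟩ := (Ideal.IsPrime.inf_le' hP.1.1).1 h
      obtain ⟨hne, hQmem⟩ := Finset.mem_erase.1 hQ
      rw [Set.Finite.mem_toFinset] at hQmem
      exact hne (le_antisymm hQP (hP.2 hQmem.1 hQP))
    · exact hrm (le_antisymm (IsLocalRing.le_maximalIdeal r.isPrime.ne_top) (h.trans hPr))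
  obtain ⟨g, hg, hgP⟩ := Set.not_subset.1 hK
  refine hgP (hP.1.2 ?_)
  obtain ⟨l, hl⟩ := exists_list_span' I
  have hga : ∀ a ∈ l, g * a ∈ L := fun a ha => by
    refine radical_torsIdeal (s : ℤ) Y ?_
    show g * a ∈ L.radical
    rw [← Ideal.sInf_minimalPrimes, Submodule.mem_sInf]
    intro Q hQ
    by_cases hQP : Q = P
    · subst hQP
      exact Ideal.mul_mem_left Q g (hPI (hl ▸ Ideal.subset_span ha))
    · exact Ideal.mul_mem_right a Q
        ((Finset.inf_le (f := id) (Finset.mem_erase.2 ⟨hQP, (Set.Finite.mem_toFinset _).2 hQ⟩) : S.inf id ≤ Q) hg.1)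
  rw [hL, mem_torsIdeal_iff]
  intro i hi
  haveI : DRing.HasRgammaI (IsLocalRing.maximalIdeal A ⊔ I) :=
    DerLib.KInjDerived.hasRightDerivedFunctor _ (DerLib.KInjDerived.enoughKInj _)
  obtain ⟨e1⟩ := (Groth.Agent.S1814.result A I X₀).1
  obtain ⟨e2⟩ := Groth.Agent.S1816.result A (IsLocalRing.maximalIdeal A) I (Dual.inD A M)
  refine isTorsM_of_mul l g (s : ℤ) (isCoref_RgammaIε l I hl Y) (fun j => ?_)
    (fun a ha j hj => (mem_torsIdeal_iff (s : ℤ) Y _).1 (hga a ha) j hj) i hi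
  exact isTorsM_of_surjective ((hF A j).mapIso (e1 ≪≫ e2)).inv
    (((hF A j).mapIso (e1 ≪≫ e2)).symm.toLinearEquiv.surjective)
    (isTorsM_RgammaI _ _ (Ideal.mem_sup_left hg.2) j)

end LcAlgLib

end
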