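import Groth.Agent.HLVTLib.Main
import Groth.Agent.AdicRingLib.Completion
import Groth.Agent.DualCxLib.DimFnLocal
import Groth.Prelude.Def_Wider

/-!
Cohomological dimension of quotients of `I`-adically complete local rings.
-/

set_option autoImplicit false
set_option linter.style.haveILetI false
set_option maxHeartbeats 800000

universe u

open IsLocalRing LocCoh
open Groth.Agent Groth.Agent.DualCxLib

attribute [local instance] HasDerivedCategory.standard

noncomputable section

namespace LcAlgLib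

variable {A : Type u} [CommRing A] [IsLocalRing A] [IsNoetherianRing A] (I : Ideal A)

/-- If `V(I)` meets `V(P)` outside the closed point then `cd(A/P, I) < dim A/P`. -/
theorem cdLE_quotient [IsAdicComplete I A] {ω : Dual.D A} (hω : Dual.IsDualizing A ω) (P r : PrimeSpectrum A)
    (hPr : P ≤ r) (hIr : I ≤ r.asIdeal) (hr : r.asIdeal ≠ maximalIdeal A) (n : ℕ)
    (hn : ringKrullDim (A ⧸ P.asIdeal) = n) :
    LocCoh.CdLE (A ⧸ P.asIdeal) (I.map (Ideal.Quotient.mk P.asIdeal)) (n - 1) := by
  intro M _ _ i hi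
  let B := A ⧸ P.asIdeal
  haveI : IsLocalRing B := IsLocalRing.of_surjective' (Ideal.Quotient.mk P.asIdeal) Ideal.Quotient.mk_surjective
  refine HLVTLib.subsingleton_H_hlvt hn _ (fun Q hQ hQd => ?_) M (by omega)
  let C := AdicCompletion (maximalIdeal B) B
  haveI : IsNoetherianRing C := AdicRingLib.isNoetherianRing_adicCompletion _
  haveI : Q.IsPrime := hQ.1.1
  let J := (I.map (Ideal.Quotient.mk P.asIdeal)).map (algebraMap B C) ⊔ Q
  let ψ : A →+* C ⧸ Q := (Ideal.Quotient.mk Q).comp ((algebraMap B C).comp (Ideal.Quotient.mk P.asIdeal))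
  haveI : IsLocalRing (C ⧸ Q) := IsLocalRing.of_surjective' (Ideal.Quotient.mk Q) Ideal.Quotient.mk_surjective
  have hIψ : I.map ψ = J.map (Ideal.Quotient.mk Q) := by
    rw [Ideal.map_sup, Ideal.map_quotient_self, sup_bot_eq, Ideal.map_map, Ideal.map_map]
    rfl
  have hJle : J ≤ maximalIdeal C := by
    refine sup_le (Ideal.map_le_iff_le_comap.2 fun b hb => ?_) (le_maximalIdeal hQ.1.1.ne_top)
    have hIm : I.map (Ideal.Quotient.mk P.asIdeal) ≤ maximalIdeal B := by
      refine le_maximalIdeal fun htop => ?_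
      have h1 := Ideal.comap_map_of_surjective (Ideal.Quotient.mk P.asIdeal) Ideal.Quotient.mk_surjective I
      rw [htop, Ideal.comap_top, ← RingHom.ker_eq_comap_bot, Ideal.mk_ker] at h1
      exact r.isPrime.ne_top (top_le_iff.1 (h1.le.trans (sup_le hIr hPr)))
    show algebraMap B C b ∈ maximalIdeal C
    rw [AdicCompletion.maximalIdeal_eq_map]
    exact Ideal.mem_map_of_mem _ (hIm hb)
  by_contra hdim
  have hnt : Nontrivial (C ⧸ J) :=
    Ideal.Quotient.nontrivial_iff.2 (ne_top_of_le_ne_top (maximalIdeal.isMaximal C).ne_top hJle)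
  haveI : Ring.KrullDimLE 0 (C ⧸ J) := by
    refine Ring.krullDimLE_iff.2 ?_
    have h1 : ¬ (1 : WithBot ℕ∞) ≤ ringKrullDim (C ⧸ J) := hdim
    revert h1
    generalize ringKrullDim (C ⧸ J) = x
    intro h1
    induction x using WithBot.recBotCoe with
    | bot => exact bot_le
    | coe e =>
      have h2 : ¬ (1 : ℕ∞) ≤ e := fun h => h1 (WithBot.coe_le_coe.2 h)
      rw [ENat.one_le_iff_ne_zero, not_not] at h2
      rw [h2]
      exact le_rfl
  obtain ⟨c, hc⟩ : ∃ c, maximalIdeal C ^ c ≤ J := by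
    refine Ideal.exists_pow_le_of_le_radical_of_fg ?_ (IsNoetherian.noetherian _)
    rw [Ideal.radical_eq_sInf]
    refine le_sInf fun q ⟨hq, hqp⟩ => ?_
    haveI := hqp
    haveI : (q.map (Ideal.Quotient.mk J)).IsPrime :=
      Ideal.map_isPrime_of_surjective Ideal.Quotient.mk_surjective (by rw [Ideal.mk_ker]; exact hq)
    haveI : (q.map (Ideal.Quotient.mk J)).IsMaximal := Ideal.isMaximal_of_isPrime _
    have hq' : ((q.map (Ideal.Quotient.mk J)).comap (Ideal.Quotient.mk J)).IsMaximal :=
      Ideal.comap_isMaximal_of_surjective _ Ideal.Quotient.mk_surjective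
    rw [Ideal.comap_map_of_surjective _ Ideal.Quotient.mk_surjective, ← RingHom.ker_eq_comap_bot,
      Ideal.mk_ker, sup_eq_left.2 hq] at hq'
    rw [IsLocalRing.eq_maximalIdeal hq']
  haveI : IsHausdorff (I.map ψ) (C ⧸ Q) := by
    refine ⟨fun x hx => ?_⟩
    have hne : I.map ψ ≠ ⊤ := by
      rw [hIψ]
      refine fun htop => (maximalIdeal.isMaximal C).ne_top (top_le_iff.1 ?_)
      have h1 := Ideal.comap_map_of_surjective (Ideal.Quotient.mk Q) Ideal.Quotient.mk_surjective J
      rw [htop, Ideal.comap_top, ← RingHom.ker_eq_comap_bot, Ideal.mk_ker,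
        sup_eq_left.2 (le_sup_right : Q ≤ J)] at h1
      exact h1.le.trans hJle
    have h2 : x ∈ ⨅ k : ℕ, (I.map ψ) ^ k := Ideal.mem_iInf.2 fun k => by
      have h3 := hx k
      rw [SModEq.zero, smul_eq_mul, Ideal.mul_top] at h3
      exact h3
    rwa [Ideal.iInf_pow_eq_bot_of_isLocalRing (I.map ψ) hne] at h2
  have hsurj : Function.Surjective ψ := by
    refine surjective_of_mk_map_comp_surjective (I := I) ψ fun y => ?_
    obtain ⟨y, rfl⟩ := Ideal.Quotient.mk_surjective y
    obtain ⟨x, rfl⟩ := Ideal.Quotient.mk_surjective y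
    obtain ⟨b, hb⟩ := AdicRingLib.exists_sub_mem_map_pow
      (IsNoetherian.noetherian (maximalIdeal B)) c x
    obtain ⟨a, rfl⟩ := Ideal.Quotient.mk_surjective b
    refine ⟨a, ?_⟩
    symm
    show Ideal.Quotient.mk (I.map ψ) (Ideal.Quotient.mk Q x) =
      Ideal.Quotient.mk (I.map ψ) (Ideal.Quotient.mk Q (algebraMap B C (Ideal.Quotient.mk P.asIdeal a)))
    rw [Ideal.Quotient.eq, ← map_sub, hIψ]
    refine Ideal.mem_map_of_mem _ (hc ?_)
    rw [AdicCompletion.maximalIdeal_eq_map, ← Ideal.map_pow]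
    exact hb
  let P' : PrimeSpectrum A := ⟨RingHom.ker ψ, RingHom.ker_isPrime ψ⟩
  have hPP' : P ≤ P' := fun a ha => by
    show Ideal.Quotient.mk Q (algebraMap B C (Ideal.Quotient.mk P.asIdeal a)) = 0
    rw [Ideal.Quotient.eq_zero_iff_mem.2 ha, map_zero, map_zero]
  have hdP' : ringKrullDim (A ⧸ P'.asIdeal) = n :=
    (ringKrullDim_eq_of_ringEquiv (RingHom.quotientKerEquivOfSurjective hsurj)).trans hQd
  have heq : P' = P := by
    by_contra hne
    have hlt := deg_strictMono hω (lt_of_le_of_ne hPP' (Ne.symm hne))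
    have h2 := (deg_strictMono hω).monotone (le_closedPt P')
    rw [ringKrullDim_quotient_eq hω] at hn hdP'
    have e1 : (deg hω (closedPt A) - deg hω P).toNat = n := by exact_mod_cast hn
    have e2 : (deg hω (closedPt A) - deg hω P').toNat = n := by exact_mod_cast hdP'
    omega
  have hker : RingHom.ker ψ = P.asIdeal := congrArg PrimeSpectrum.asIdeal heq
  -- the image of `r` contradicts `dim C/(IC + Q) ≤ 0`
  haveI : (r.asIdeal.map ψ).IsPrime := Ideal.map_isPrime_of_surjective hsurj (hker.le.trans hPr)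
  let q : Ideal C := (r.asIdeal.map ψ).comap (Ideal.Quotient.mk Q)
  have hqJ : J ≤ q := by
    refine Ideal.map_le_iff_le_comap.1 ?_
    rw [← hIψ]
    exact Ideal.map_mono hIr
  haveI : q.IsPrime := Ideal.IsPrime.comap _
  have hqm : q ≠ maximalIdeal C := by
    intro hq
    have h1 : r.asIdeal.map ψ = maximalIdeal (C ⧸ Q) := by
      refine IsLocalRing.eq_maximalIdeal ?_
      have h2 := Ideal.map_comap_of_surjective (Ideal.Quotient.mk Q) Ideal.Quotient.mk_surjective (r.asIdeal.map ψ)
      rw [← h2, show (r.asIdeal.map ψ).comap (Ideal.Quotient.mk Q) = maximalIdeal C from hq]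
      refine Ideal.IsMaximal.map_of_surjective_of_ker_le Ideal.Quotient.mk_surjective ?_
      rw [Ideal.mk_ker]
      exact le_maximalIdeal hQ.1.1.ne_top
    refine hr (IsLocalRing.eq_maximalIdeal ?_)
    have h3 : (r.asIdeal.map ψ).comap ψ = r.asIdeal := by
      rw [Ideal.comap_map_of_surjective _ hsurj, ← RingHom.ker_eq_comap_bot, hker, sup_eq_left]
      exact hPr
    rw [← h3, h1]
    exact Ideal.comap_isMaximal_of_surjective _ hsurj
  haveI : (q.map (Ideal.Quotient.mk J)).IsPrime :=
    Ideal.map_isPrime_of_surjective Ideal.Quotient.mk_surjective (by rw [Ideal.mk_ker]; exact hqJ)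
  haveI : (q.map (Ideal.Quotient.mk J)).IsMaximal := Ideal.isMaximal_of_isPrime _
  have hq' : ((q.map (Ideal.Quotient.mk J)).comap (Ideal.Quotient.mk J)).IsMaximal :=
    Ideal.comap_isMaximal_of_surjective _ Ideal.Quotient.mk_surjective
  rw [Ideal.comap_map_of_surjective _ Ideal.Quotient.mk_surjective, ← RingHom.ker_eq_comap_bot,
    Ideal.mk_ker, sup_eq_left.2 hqJ] at hq'
  exact hqm (IsLocalRing.eq_maximalIdeal hq')

end LcAlgLib

end
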