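import Groth.Agent.LcCompLib.Main
import Groth.Agent.DRingLib.RgammaCompletion
import Groth.Agent.DRingLib.RgammaRlim
import Groth.Agent.LcAlgLib.Main

/-!
Torsion of the completed local cohomology at a prime outside `V(I)`, for an arbitrary support.
-/

set_option autoImplicit false
set_option linter.style.haveILetI false
set_option maxHeartbeats 1600000

universe u

open CategoryTheory CategoryTheory.Limits LocCoh
open CategoryTheory.Pretriangulated (Triangle)

attribute [local instance] HasDerivedCategory.standard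

noncomputable section

namespace LcAlgLib.Gen

open Groth.Agent Groth.Agent.DRingLib Groth.Agent.DualCxLib

variable {A : Type u} [CommRing A]

/-- The middle of an exact sequence is torsion. -/
theorem isTorsM_middle {g h : A} {X Y Z : ModuleCat.{u} A} (a : X ⟶ Y) (b : Y ⟶ Z)
    (hab : ∀ y, b.hom y = 0 → ∃ x, a.hom x = y) (hX : IsTorsM g X) (hZ : IsTorsM h Z) :
    IsTorsM (g * h) Y := fun y => by
  obtain ⟨n, hn⟩ := hZ (b.hom y)
  obtain ⟨x, hx⟩ := hab (h ^ n • y) (by rw [map_smul, hn])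
  obtain ⟨m, hm⟩ := hX x
  refine ⟨m + n, ?_⟩
  rw [mul_pow, show g ^ (m + n) * h ^ (m + n) = (g ^ n * h ^ m) * (g ^ m * h ^ n) by ring, mul_smul,
    mul_smul (g ^ m), ← hx, ← map_smul a.hom, hm, map_zero, smul_zero]

/-- Torsion passes to multiples. -/
theorem isTorsM_mul {g : A} {M : Type u} [AddCommGroup M] [Module A M] (c : A) (h : IsTorsM g M) :
    IsTorsM (c * g) M := fun x => by
  obtain ⟨n, hn⟩ := h x
  exact ⟨n, by rw [mul_pow, mul_smul, hn, smul_zero]⟩

/-- If the `x`-torsion is `g`-torsion and everything is `g' x`-torsion, everything is `g g'`-torsion. -/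
theorem isTorsM_of_ker {g g' x : A} {M : Type u} [AddCommGroup M] [Module A M]
    (hker : ∀ z : M, x • z = 0 → ∃ n : ℕ, g ^ n • z = 0) (h : IsTorsM (g' * x) M) : IsTorsM (g * g') M := by
  have key : ∀ (n : ℕ) (z : M), x ^ n • z = 0 → ∃ m : ℕ, g ^ m • z = 0 := by
    intro n
    induction n with
    | zero => exact fun z hz => ⟨0, by rw [pow_zero] at hz ⊢; exact hz⟩
    | succ n ih =>
      intro z hz
      rw [pow_succ, mul_smul] at hz
      obtain ⟨m, hm⟩ := ih (x • z) hz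
      obtain ⟨k, hk⟩ := hker (g ^ m • z) (by rw [smul_comm, hm])
      exact ⟨k + m, by rw [pow_add, mul_smul, hk]⟩
  intro z
  obtain ⟨n, hn⟩ := h z
  rw [mul_pow, mul_comm, mul_smul] at hn
  obtain ⟨m, hm⟩ := key n _ hn
  refine ⟨m + n, ?_⟩
  rw [mul_pow, show g ^ (m + n) * g' ^ (m + n) = (g ^ n * g' ^ m) * (g ^ m * g' ^ n) by ring, mul_smul,
    mul_smul (g ^ m), hm, smul_zero]

variable [IsNoetherianRing A] (I J : Ideal A) [DRing.HasDerivedCompletion I] [DRing.HasRgammaI J]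

/-- Degree `i` cohomology of the completion of `RΓ_J`. -/
abbrev HY (i : ℤ) (M : ModuleCat.{u} A) : ModuleCat.{u} A :=
  (hF A i).obj ((cF I).obj ((DRing.RgammaI J).obj ((DerivedCategory.singleFunctor (ModuleCat.{u} A) 0).obj M)))

/-- Functoriality. -/
abbrev HYmap (i : ℤ) {M N : ModuleCat.{u} A} (φ : M ⟶ N) : HY I J i M ⟶ HY I J i N :=
  (hF A i).map ((cF I).map ((DRing.RgammaI J).map ((DerivedCategory.singleFunctor (ModuleCat.{u} A) 0).map φ)))

theorem HYmap_smul (i : ℤ) (M : ModuleCat.{u} A) (a : A) (z : HY I J i M) :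
    (HYmap I J i (a • 𝟙 M)).hom z = a • z := by
  obtain ⟨l, hl⟩ := exists_list_span' J
  have h1 : (DRing.RgammaI J).map ((DerivedCategory.singleFunctor (ModuleCat.{u} A) 0).map (a • 𝟙 M)) =
      a • 𝟙 _ := by
    rw [Functor.map_smul, CategoryTheory.Functor.map_id]
    exact Φ_map_smul J l hl a _
  show ((hF A i).map ((cF I).map _)).hom z = a • z
  rw [h1, cF_map_smul_id]
  exact DCompLib.map_smul_id a _ i z

theorem smul_HY_eq_zero (i : ℤ) (M : ModuleCat.{u} A) (a : A) (ha : ∀ x : M, a • x = 0) (z : HY I J i M) :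
    a • z = 0 := by
  obtain ⟨l, hl⟩ := exists_list_span' J
  haveI := additive_Φ J l hl
  have h0 : a • 𝟙 M = 0 := ModuleCat.hom_ext (LinearMap.ext fun x => ha x)
  rw [← HYmap_smul, h0]
  simp [HYmap]

/-- The long exact sequence. -/
theorem exact_HY {S : ShortComplex (ModuleCat.{u} A)} (hS : S.ShortExact) (i : ℤ) :
    (∀ y, (HYmap I J i S.g).hom y = 0 → ∃ x, (HYmap I J i S.f).hom x = y) ∧
    ∃ δ : HY I J i S.X₃ ⟶ HY I J (i + 1) S.X₁,
      (∀ y, δ.hom y = 0 → ∃ x, (HYmap I J i S.g).hom x = y) ∧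
      (∀ y, (HYmap I J (i + 1) S.f).hom y = 0 → ∃ x, δ.hom x = y) := by
  obtain ⟨l, hl⟩ := exists_list_span' J
  obtain ⟨q₁, hq₁⟩ := exists_Φ_triangle J l hl (show Triangle.mk
    ((DerivedCategory.singleFunctor (ModuleCat.{u} A) 0).map S.f)
    ((DerivedCategory.singleFunctor (ModuleCat.{u} A) 0).map S.g) hS.singleTriangle.mor₃ ∈
      Pretriangulated.distinguishedTriangles from hS.singleTriangle_distinguished)
  obtain ⟨q, hq⟩ := exists_cF_triangle (I := I) hq₁
  exact ⟨fun y hy => (ShortComplex.moduleCat_exact_iff _).1 (DerivedCategory.HomologySequence.exact₂ _ hq i) y hy,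
    DerivedCategory.HomologySequence.δ
      (Triangle.mk ((cF I).map ((DRing.RgammaI J).map ((DerivedCategory.singleFunctor (ModuleCat.{u} A) 0).map S.f)))
        ((cF I).map ((DRing.RgammaI J).map ((DerivedCategory.singleFunctor (ModuleCat.{u} A) 0).map S.g))) q)
      i (i + 1) rfl,
    fun y hy => (ShortComplex.moduleCat_exact_iff _).1
      (DerivedCategory.HomologySequence.exact₃ _ hq i (i + 1) rfl) y hy,
    fun y hy => (ShortComplex.moduleCat_exact_iff _).1
      (DerivedCategory.HomologySequence.exact₁ _ hq i (i + 1) rfl) y hy⟩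

theorem isZero_HY_of_neg [IsAdicComplete I A] (M : Type u) [AddCommGroup M] [Module A M] [Module.Finite A M]
    (i : ℤ) (hi : i < 0) : IsZero (HY I J i (ModuleCat.of A M)) := by
  obtain ⟨l, hl⟩ := exists_list_span' J
  obtain ⟨R, u, hu, hR, -, -⟩ := exists_coref_good (I := I) (Dual.inD A M) (isGood_inD M) l
  obtain ⟨e, -⟩ := (isCoref_RgammaIε l J hl (Dual.inD A M)).exists_iso hu
  exact (show IsZero ((hF A i).obj ((cF I).obj R)) from hR [] i hi).of_iso ((cF I ⋙ hF A i).mapIso e)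

/-- Degree zero: Krull intersection at a prime of `V(I)` outside `V(J)`. -/
theorem exists_notMem_tors_zero [IsAdicComplete I A] (P r : PrimeSpectrum A) (hPr : P ≤ r)
    (hIr : I ≤ r.asIdeal) (hJr : ¬ J ≤ r.asIdeal) (M : Type u) [AddCommGroup M] [Module A M] [Module.Finite A M] :
    ∃ g : A, g ∉ P.asIdeal ∧ ∀ i : ℤ, i ≤ 0 → IsTorsM g (HY I J i (ModuleCat.of A M)) := by
  obtain ⟨l, hl⟩ := exists_list_span' J
  obtain ⟨hinj, hrange⟩ := range_H0c_coref (I := I) M l (isCoref_RgammaIε l J hl (Dual.inD A M))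
  let W := deadPart P.asIdeal M
  obtain ⟨g, hgW, hgP⟩ : ∃ g, g ∈ Module.annihilator A W ∧ g ∉ P.asIdeal := by
    refine Set.not_subset.1 fun hle => ?_
    have hmem : P ∈ Module.support A W := Module.mem_support_iff_of_finite.2 hle
    refine Module.notMem_support_iff'.2 (fun m => ?_) hmem
    obtain ⟨t, ht, htm⟩ := mem_deadPart.1 m.2
    exact ⟨t, ht, Subtype.ext htm⟩
  refine ⟨g, hgP, fun i hi z => ⟨1, ?_⟩⟩
  rw [pow_one]
  rcases lt_or_eq_of_le hi with hi | rfl
  · haveI := ModuleCat.subsingleton_of_isZero (isZero_HY_of_neg I J M i hi)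
    exact Subsingleton.elim _ _
  refine hinj ?_
  rw [map_smul, map_zero]
  obtain ⟨x, ⟨J', -, hJ, n, hn⟩, hxz⟩ := hrange.le ⟨z, rfl⟩
  rw [← hxz, ← map_smul]
  have hxW : x ∈ W := by
    obtain ⟨c, hc, hcr⟩ : ∃ c ∈ J', c ∉ r.asIdeal := Set.not_subset.1 fun hle => hJr
      ((hl ▸ hJ).trans (r.isPrime.radical_le_iff.2 (sup_le hle hIr)))
    exact mem_deadPart.2 ⟨c ^ n, fun h => hcr (hPr (P.isPrime.mem_of_pow_mem n h)), hn _ (Ideal.pow_mem_pow hc n)⟩
  have hg0 : g • x = 0 := congrArg Subtype.val (Module.mem_annihilator.1 hgW ⟨x, hxW⟩)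
  rw [hg0, map_zero]

variable {ω : Dual.D A} (hω : Dual.IsDualizing A ω) (d : ℕ) (P : PrimeSpectrum A)

/-- The depth alternatives at all generizations of `P`, through `Ext` into the dualizing complex. -/
def Alt (s : ℕ) (M : Type u) [AddCommGroup M] [Module A M] : Prop :=
  ∀ Q q : PrimeSpectrum A, Q ≤ P → Q ≤ q → J ≤ q.asIdeal → I ≤ q.asIdeal →
    (∀ δ : ℕ, δ < s → Van Q.asIdeal (Ext ω (ModuleCat.of A M) (deg hω Q - δ))) ∨
    (∀ δ : ℕ, δ + (deg hω q - deg hω Q).toNat ≤ d + s →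
      Van Q.asIdeal (Ext ω (ModuleCat.of A M) (deg hω Q - δ)))

omit [DRing.HasDerivedCompletion I] [DRing.HasRgammaI J] in
theorem van_torsion {Γ : Type u} [AddCommGroup Γ] [Module A Γ] [Module.Finite A Γ] (k : ℕ)
    (hk : ∀ a ∈ P.asIdeal ^ k, ∀ z : Γ, a • z = 0) (Q : PrimeSpectrum A) (hQ : Q ≤ P) (δ : ℕ)
    (hδ : Q = P → δ ≠ 0) : Van Q.asIdeal (Ext ω (ModuleCat.of A Γ) (deg hω Q - δ)) := by
  refine van_ext_of_primes _ fun q hq hqQ => ?_
  have hPq : P.asIdeal ≤ q.asIdeal := fun a ha => q.isPrime.mem_of_pow_mem k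
    (Module.mem_support_iff_of_finite.1 hq (Module.mem_annihilator.2 (hk _ (Ideal.pow_mem_pow ha k))))
  have hQP : Q = P := le_antisymm hQ (hPq.trans hqQ)
  have hqP : q = P := le_antisymm (le_trans hqQ hQ) hPq
  subst hQP
  rw [hqP]
  exact (isDeg_deg hω Q).1 _ (by have := hδ rfl; omega)

theorem tors_induction [IsAdicComplete I A] (r : PrimeSpectrum A) (hPr : P ≤ r) (hIr : I ≤ r.asIdeal)
    (hJr : ¬ J ≤ r.asIdeal) (hd : LocCoh.CdLE A I d) (s : ℕ) :
    ∀ (M : Type u) [AddCommGroup M] [Module A M] [Module.Finite A M], Alt I J hω d P s M →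
      (∀ y ∈ P.asIdeal, ∃ g, g ∉ P.asIdeal ∧
        ∀ i : ℤ, i ≤ s → IsTorsM (g * y) (HY I J i (ModuleCat.of A M))) →
      ∃ g, g ∉ P.asIdeal ∧ ∀ i : ℤ, i ≤ s → IsTorsM g (HY I J i (ModuleCat.of A M)) := by
  induction s with
  | zero =>
    intro M _ _ _ _ _
    exact exists_notMem_tors_zero I J P r hPr hIr hJr M
  | succ t ih =>
    intro M _ _ _ halt hM
    let Γ := DRing.torsionSub P.asIdeal M
    obtain ⟨k, hk⟩ : ∃ k : ℕ, ∀ a ∈ P.asIdeal ^ k, ∀ z : Γ, a • z = 0 := by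
      obtain ⟨G, hG⟩ := (IsNoetherian.noetherian Γ : Γ.FG)
      have : ∀ z ∈ G, ∃ n : ℕ, ∀ a ∈ P.asIdeal ^ n, a • z = 0 := fun z hz =>
        (show z ∈ Γ by rw [← hG]; exact Submodule.subset_span hz)
      choose! n hn using this
      refine ⟨G.sup n, fun a ha z => Subtype.ext ?_⟩
      have hle : Γ ≤ LinearMap.ker (LinearMap.lsmul A M a) := by
        rw [← hG, Submodule.span_le]
        exact fun z hz => hn z hz a (Ideal.pow_le_pow_right (Finset.le_sup hz) ha)
      exact LinearMap.mem_ker.1 (hle z.2)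
    let S : ShortComplex (ModuleCat.{u} A) := ShortComplex.mk (ModuleCat.ofHom Γ.subtype)
      (ModuleCat.ofHom Γ.mkQ) (ModuleCat.hom_ext (LinearMap.ext fun z => (Submodule.Quotient.mk_eq_zero _).2 z.2))
    have hS : S.ShortExact :=
      { exact := (ShortComplex.moduleCat_exact_iff_range_eq_ker _).2 (by
          show LinearMap.range Γ.subtype = LinearMap.ker Γ.mkQ
          rw [Submodule.range_subtype, Submodule.ker_mkQ])
        mono_f := (ModuleCat.mono_iff_injective _).2 Γ.injective_subtype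
        epi_g := (ModuleCat.epi_iff_surjective _).2 Γ.mkQ_surjective }
    let M' := M ⧸ Γ
    -- depth zero at `P` only in the second alternative
    have hgood : ∀ Q q : PrimeSpectrum A, Q ≤ P → Q ≤ q → J ≤ q.asIdeal → I ≤ q.asIdeal → ∀ δ : ℕ,
        δ + (deg hω q - deg hω Q).toNat ≤ d + (t + 1) →
          Van Q.asIdeal (Ext ω (ModuleCat.of A Γ) (deg hω Q - δ)) := by
      intro Q q hQP hQq hJq hIq δ hδ
      by_cases h0 : Q = P ∧ δ = 0
      · obtain ⟨rfl, rfl⟩ := h0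
        refine van_ext₁ hS _ ?_ (van_of_gt hω Q _ (by push_cast; omega))
        rcases halt Q q hQP hQq hJq hIq with h | h
        · exact h 0 (Nat.succ_pos t)
        · exact h 0 hδ
      · exact van_torsion hω P k hk Q hQP δ fun h1 h2 => h0 ⟨h1, h2⟩
    obtain ⟨f, hfP, hf⟩ := LcCompLib.exists_notMem_kill I J Γ ⟨ω, hω⟩ P (t + 1) d hd (by
      intro Q q hQP hQq hJq hIq
      rw [LcFinLib.krullDim_Icc_eq hω hQq]
      set v := (deg hω q - deg hω Q).toNat with hv
      have he := (le_depth_iff_van hω Q (d + (t + 1) + 1 - v) Γ).2 fun δ hδ =>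
        hgood Q q hQP hQq hJq hIq δ (by omega)
      show (((d + (t + 1) : ℕ) : ℕ∞) : WithBot ℕ∞) <
        (((LocCoh.depth (Localization.AtPrime Q.asIdeal) (LocalizedModule Q.asIdeal.primeCompl Γ) + (v : ℕ∞)) :
          ℕ∞) : WithBot ℕ∞)
      rw [WithBot.coe_lt_coe]
      refine lt_of_lt_of_le ?_ (add_le_add he le_rfl)
      exact_mod_cast (show d + (t + 1) < (d + (t + 1) + 1 - v) + v by omega))
    have hΓ : ∀ i : ℤ, i ≤ ((t + 1 : ℕ) : ℤ) → IsTorsM f (HY I J i (ModuleCat.of A Γ)) := fun i hi z =>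
      ⟨1, by rw [pow_one]; exact hf i hi z⟩
    -- the quotient satisfies both hypotheses
    have halt' : Alt I J hω d P (t + 1) M' := by
      intro Q q hQP hQq hJq hIq
      have hvan : ∀ δ : ℕ, Van Q.asIdeal (Ext ω (ModuleCat.of A M) (deg hω Q - δ)) →
          Van Q.asIdeal (Ext ω (ModuleCat.of A M') (deg hω Q - δ)) := fun δ h =>
        van_ext₃ hS _ (deg hω Q - ((δ + 1 : ℕ) : ℤ)) (by push_cast; ring)
          (van_torsion hω P k hk Q hQP (δ + 1) fun _ => Nat.succ_ne_zero δ) h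
      exact (halt Q q hQP hQq hJq hIq).imp (fun h δ hδ => hvan δ (h δ hδ)) fun h δ hδ => hvan δ (h δ hδ)
    have hM' : ∀ y ∈ P.asIdeal, ∃ g, g ∉ P.asIdeal ∧
        ∀ i : ℤ, i ≤ ((t + 1 : ℕ) : ℤ) → IsTorsM (g * y) (HY I J i (ModuleCat.of A M')) := fun y hy => by
      obtain ⟨g, hg, hgt⟩ := hM y hy
      refine ⟨g * g, fun h => (P.isPrime.mem_or_mem h).elim hg hg, fun i hi z => ?_⟩
      obtain ⟨-, δ, hδ, -⟩ := exact_HY I J hS i
      obtain ⟨x, hx⟩ := hδ (y ^ k • z) (by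
        rw [map_smul]
        exact smul_HY_eq_zero I J _ _ _ (hk _ (Ideal.pow_mem_pow hy k)) _)
      obtain ⟨n, hn⟩ := hgt i hi x
      refine ⟨n + k, ?_⟩
      rw [show (g * g * y) ^ (n + k) = (g ^ k * g ^ (n + k)) * ((g * y) ^ n * y ^ k) by ring, mul_smul,
        mul_smul _ (y ^ k), ← hx, ← map_smul (HYmap I J i S.g).hom, hn, map_zero, smul_zero]
    -- a regular element
    obtain ⟨x, hxP, hx⟩ := CommAlgDim.exists_isSMulRegular_mem (I := P.asIdeal) (M := M') (by
      intro q hq hle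
      obtain ⟨hqp, v, hv⟩ := isAssociatedPrime_iff.1 hq
      refine hqp.ne_top ((Ideal.eq_top_iff_one q).2 ?_)
      rw [hv, Submodule.mem_colon_singleton, Submodule.mem_bot, one_smul]
      obtain ⟨m, rfl⟩ := Submodule.Quotient.mk_surjective _ v
      refine (Submodule.Quotient.mk_eq_zero _).2 ⟨k + 1, fun a ha => ?_⟩
      rw [pow_succ] at ha
      refine Submodule.mul_induction_on ha (fun b hb c hc => ?_) (fun b c hb hc => by rw [add_smul, hb, hc, add_zero])
      have hcm : c • m ∈ Γ := by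
        rw [← Submodule.Quotient.mk_eq_zero, Submodule.Quotient.mk_smul, ← Submodule.mem_bot A,
          ← Submodule.mem_colon_singleton, ← hv]
        exact hle hc
      rw [mul_smul]
      exact congrArg Subtype.val (hk b hb ⟨_, hcm⟩))
    let T := mulSeq (ModuleCat.of A M') x
    have hTe : T.ShortExact := shortExact_mulSeq hx
    haveI : Module.Finite A T.X₃ := inferInstanceAs (Module.Finite A (M' ⧸ _))
    obtain ⟨g₁, hg₁, hg₁t⟩ := ih T.X₃ (by
        intro Q q hQP hQq hJq hIq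
        have hvan : ∀ δ : ℕ, Van Q.asIdeal (Ext ω (ModuleCat.of A M') (deg hω Q - ((δ + 1 : ℕ) : ℤ))) →
            Van Q.asIdeal (Ext ω (ModuleCat.of A M') (deg hω Q - δ)) →
            Van Q.asIdeal (Ext ω (ModuleCat.of A T.X₃) (deg hω Q - δ)) := fun δ h h' =>
          van_ext₃ hTe _ _ (by push_cast; ring) h h'
        exact (halt' Q q hQP hQq hJq hIq).imp
          (fun h δ hδ => hvan δ (h (δ + 1) (by omega)) (h δ (by omega)))
          fun h δ hδ => hvan δ (h (δ + 1) (by omega)) (h δ (by omega))) (by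
        intro y hy
        obtain ⟨g, hg, hgt⟩ := hM' y hy
        refine ⟨g * g, fun h => (P.isPrime.mem_or_mem h).elim hg hg, fun i hi z => ?_⟩
        obtain ⟨-, δ, hδ, -⟩ := exact_HY I J hTe i
        obtain ⟨n, hn⟩ := hgt (i + 1) (by push_cast; omega) (δ.hom z)
        obtain ⟨w, hw⟩ := hδ ((g * y) ^ n • z) (by rw [map_smul]; exact hn)
        obtain ⟨m, hm⟩ := hgt i (by push_cast; omega) w
        refine ⟨2 * (m + n), ?_⟩
        rw [show (g * g * y) ^ (2 * (m + n)) =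
            (g ^ (3 * (m + n)) * y ^ (m + n)) * ((g * y) ^ m * (g * y) ^ n) by ring, mul_smul,
          mul_smul _ ((g * y) ^ n), ← hw, ← map_smul (HYmap I J i T.g).hom, hm, map_zero, smul_zero])
    obtain ⟨g₀, hg₀, hg₀t⟩ := hM' x hxP
    have hker : ∀ i : ℤ, i ≤ ((t + 1 : ℕ) : ℤ) → ∀ z : HY I J i (ModuleCat.of A M'), x • z = 0 →
        ∃ n : ℕ, g₁ ^ n • z = 0 := fun i hi z hz => by
      obtain ⟨j, rfl⟩ : ∃ j, i = j + 1 := ⟨i - 1, by omega⟩
      obtain ⟨-, δ, -, hδ⟩ := exact_HY I J hTe j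
      obtain ⟨w, rfl⟩ := hδ z ((HYmap_smul I J _ _ x z).trans hz)
      obtain ⟨n, hn⟩ := hg₁t j (by push_cast at hi; omega) w
      exact ⟨n, by rw [← map_smul, hn, map_zero]⟩
    refine ⟨f * (g₁ * g₀), fun h => (P.isPrime.mem_or_mem h).elim hfP
      fun h => (P.isPrime.mem_or_mem h).elim hg₁ hg₀, fun i hi => ?_⟩
    exact isTorsM_middle (HYmap I J i S.f) (HYmap I J i S.g) (exact_HY I J hS i).1 (hΓ i hi)
      (isTorsM_of_ker (hker i hi) (hg₀t i hi))

end LcAlgLib.Gen

end
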