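import Groth.Agent.LcCompLib.Kill

/-!
Annihilating maps out of `RΓ_I(A)`.
-/

set_option autoImplicit false
set_option linter.style.haveILetI false
set_option maxHeartbeats 800000

universe u

open CategoryTheory CategoryTheory.Limits LocCoh
open CategoryTheory.Pretriangulated (Triangle)

attribute [local instance] HasDerivedCategory.standard

noncomputable section

namespace LcAlgLib

open Groth.Agent Groth.Agent.DRingLib Groth.Agent.DCompLib

variable {A : Type u} [CommRing A]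

/-- An element outside `p` kills the maps `R ⟶ X⟦-k⟧` for `m ≤ k`. -/
def Good (R : Dual.D A) (p : Ideal A) (m : ℤ) (X : Dual.D A) : Prop :=
  ∃ f : A, f ∉ p ∧ ∀ k : ℤ, m ≤ k → ∀ g : R ⟶ X⟦-k⟧, f • g = 0

theorem Good.of_shift {R : Dual.D A} {p : Ideal A} {m : ℤ} {X : Dual.D A} (n : ℤ)
    (h : Good R p (m + n) X) : Good R p m (X⟦-n⟧) := by
  obtain ⟨f, hf, hk⟩ := h
  refine ⟨f, hf, fun k hk' g => ?_⟩
  let e := ((shiftFunctorAdd' (Dual.D A) (-n) (-k) (-(n + k)) (by ring)).app X).symm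
  rw [← cancel_mono e.hom, Linear.smul_comp, zero_comp]
  exact hk (n + k) (by omega) _

theorem devissable_good (R : Dual.D A) {p : Ideal A} (hp : p.IsPrime) (m : ℤ) :
    Devissable (R := A) (Good R p m) where
  iso {X Y} e h := by
    obtain ⟨f, hf, hk⟩ := h
    refine ⟨f, hf, fun k hk' g => ?_⟩
    rw [← cancel_mono (e.inv⟦-k⟧'), Linear.smul_comp, zero_comp]
    exact hk k hk' _
  zero {X} h := ⟨1, fun h1 => hp.ne_top ((Ideal.eq_top_iff_one p).2 h1), fun k _ g =>
    ((shiftFunctor (Dual.D A) (-k)).map_isZero h).eq_of_tgt _ _⟩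
  ext T hT h₁ h₃ := by
    obtain ⟨a, ha, ha'⟩ := h₁
    obtain ⟨b, hb, hb'⟩ := h₃
    refine ⟨a * b, fun h => (hp.mem_or_mem h).elim ha hb, fun k hk g => ?_⟩
    obtain ⟨w, hw⟩ := Triangle.coyoneda_exact₂ _ (Triangle.shift_distinguished _ hT (-k)) (b • g) (by
      change (b • g) ≫ ((-k).negOnePow • T.mor₂⟦-k⟧') = 0
      rw [Linear.smul_comp, Linear.comp_units_smul, smul_comm, hb' k hk, smul_zero])
    rw [mul_smul, hw]
    show a • (w ≫ ((-k).negOnePow • T.mor₁⟦-k⟧')) = 0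
    rw [← Linear.smul_comp, show a • w = 0 from ha' k hk w]
    exact zero_comp

variable [IsNoetherianRing A] {I : Ideal A} [DRing.HasDerivedCompletion I]

/-- What kills the maps out of `RΓ_I(A)` kills the cohomology of the completion. -/
theorem smul_completion_eq_zero {l : List A} (hl : Ideal.span {a | a ∈ l} = I) {R : Dual.D A}
    {u : R ⟶ Dual.inD A A} (hu : IsCoref l u)
    (hperp : ∀ Y, DRing.IsDerivedComplete I Y → Function.Bijective fun t : Dual.inD A A ⟶ Y => u ≫ t)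
    (c : A) (X : Dual.D A) (i : ℤ) (hc : ∀ w : R ⟶ X⟦i⟧, c • w = 0)
    (x : Dual.HD A ((cF I).obj X) i) : c • x = 0 := by
  have hl' : ∀ g ∈ l, g ∈ I := fun g hg => hl ▸ Ideal.subset_span hg
  let Y := ((cF I).obj X)⟦i⟧
  let η := DRing.toDerivedCompletion I X
  obtain ⟨B, q, hB, hBY, hBT⟩ := Groth.Agent.S1814.exists_decomp_tors l hl' (X⟦i⟧)
  have hq : IsRefl I q := ⟨hl ▸ isDerivedComplete_span_iff.2 hB, hBY⟩
  have hs : IsRefl I (η⟦i⟧') := (isRefl_unit X).shift i
  obtain ⟨a', ha'⟩ := (hq.2 _ hs.1).2 (η⟦i⟧')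
  obtain ⟨b', hb'⟩ := (hs.2 _ hq.1).2 q
  simp only at ha' hb'
  have hba : b' ≫ a' = 𝟙 _ := (hs.2 _ hs.1).1 (by
    simp only []
    rw [← Category.assoc, hb', ha', Category.comp_id])
  have key : ∀ g : Dual.inD A A ⟶ Y, c • g = 0 := fun g => by
    obtain ⟨w, hw⟩ := (hBT R hu.1).2 (u ≫ g ≫ b')
    have hw1 : w ≫ η⟦i⟧' = u ≫ g := by
      have : (w ≫ q) ≫ a' = (u ≫ g ≫ b') ≫ a' := congrArg (· ≫ a') hw
      rw [Category.assoc, ha', Category.assoc, Category.assoc, hba] at this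
      exact this.trans (congrArg (u ≫ ·) (Category.comp_id g))
    refine (hperp Y hs.1).1 (?_ : u ≫ (c • g) = u ≫ 0)
    rw [Linear.comp_smul, comp_zero, ← hw1, ← Linear.smul_comp, hc, zero_comp]
  let eS := (((DerivedCategory.homologyFunctor (ModuleCat.{u} A) 0).shiftIso i 0 i (by omega)).app
    ((cF I).obj X)).toLinearEquiv
  obtain ⟨y, rfl⟩ := eS.surjective x
  have hy : c • y = 0 := by
    refine (map_smul_id c Y 0 y).symm.trans ?_
    obtain ⟨g, hg⟩ := (bijective_evH0 (ModuleCat.of A A) Y).2 (ModuleCat.ofHom (LinearMap.toSpanSingleton A _ y))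
    have h2 := evH0_comp g (c • 𝟙 Y)
    rw [Linear.comp_smul, Category.comp_id, key g, hg] at h2
    have h3 := LinearMap.congr_fun (congrArg ModuleCat.Hom.hom h2) (1 : A)
    refine Eq.trans ?_ (h3.symm.trans ?_)
    · exact congrArg _ (one_smul A y).symm
    · simp only [evH0, Functor.map_zero, comp_zero]
      rfl
  exact (map_smul eS _ y).symm.trans ((congrArg eS hy).trans (map_zero eS))

end LcAlgLib

end
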