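import Groth.Agent.LcCxLib.LBaseRgamma
import Groth.Agent.LcCompLib.Kill
import Groth.Agent.S7084
import Groth.Agent.S8934

/-!
Maps from `RΓ_I(A)` to modules killed by a prime.
-/

set_option autoImplicit false
set_option linter.style.haveILetI false
set_option maxHeartbeats 800000

universe u

open CategoryTheory CategoryTheory.Limits LocCoh

attribute [local instance] HasDerivedCategory.standard

noncomputable section

namespace LcAlgLib

open Groth.Agent Groth.Agent.DRingLib

/-- Restriction detects null homotopy of maps adjoint to a map. -/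
theorem map_eq_zero_of_adj {A B : Type u} [CommRing A] [CommRing B] (φ : A →+* B)
    {F : CochainComplex (ModuleCat.{u} A) ℤ} {W : CochainComplex (ModuleCat.{u} B) ℤ}
    (f : ((ModuleCat.extendScalars.{u, u, u} φ).mapHomologicalComplex (ComplexShape.up ℤ)).obj F ⟶ W)
    (g : F ⟶ ((ModuleCat.restrictScalars.{u} φ).mapHomologicalComplex (ComplexShape.up ℤ)).obj W)
    (hg : g = (DerLib.KInjDerived.mapHomologicalComplexAdj (ModuleCat.extendRestrictScalarsAdj.{u, u, u} φ)
      (ComplexShape.up ℤ)).homEquiv F W f)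
    (h : (HomotopyCategory.quotient (ModuleCat.{u} B) (ComplexShape.up ℤ)).map f = 0) :
    (HomotopyCategory.quotient (ModuleCat.{u} A) (ComplexShape.up ℤ)).map g = 0 := by
  have H : Homotopy f 0 := HomotopyCategory.homotopyOfEq _ _ (h.trans (Functor.map_zero _ _ _).symm)
  rw [hg, Adjunction.homEquiv_unit, Functor.map_comp,
    HomotopyCategory.eq_of_homotopy _ _ ((ModuleCat.restrictScalars.{u} φ).mapHomotopy H),
    Functor.map_zero, Functor.map_zero, comp_zero]

variable {A : Type u} [CommRing A] [IsNoetherianRing A] {I : Ideal A}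

/-- No maps from `RΓ_I(A)` to modules killed by `P` in degrees above `cd(A/P, I)`. -/
theorem hom_eq_zero_of_killed (P : Ideal A) {c d : ℕ} (hd : LocCoh.CdLE A I d)
    (hc : LocCoh.CdLE (A ⧸ P) (I.map (Ideal.Quotient.mk P)) c)
    {l : List A} (hl : Ideal.span {a | a ∈ l} = I) {R : Dual.D A} {u : R ⟶ Dual.inD A A} (hu : IsCoref l u)
    (N : ModuleCat.{u} A) (hN : ∀ r ∈ P, ∀ x : N, r • x = 0) (j : ℤ) (hj : (c : ℤ) < j)
    (g : R ⟶ (DerivedCategory.singleFunctor (ModuleCat.{u} A) j).obj N) : g = 0 := by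
  haveI : DRing.HasDerivedCompletion I := DCompLib.hasDerivedCompletion (IsNoetherian.noetherian I)
  let B := A ⧸ P
  let φ := Ideal.Quotient.mk P
  let I' := I.map φ
  haveI : DRing.HasLBaseChange φ := hasLBaseChange φ
  haveI : DRing.HasDerivedCompletion I' := DCompLib.hasDerivedCompletion (IsNoetherian.noetherian I')
  haveI hRle : R.IsLE (d : ℤ) := LcCompLib.isLE_coref hd hl hu
  obtain ⟨F, hFb, hFf, ⟨eR⟩⟩ := exists_free_rep R (d : ℤ) fun i hi => DerivedCategory.isZero_of_isLE R (d : ℤ) i hi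
  haveI : F.IsStrictlyLE (d : ℤ) := (CochainComplex.isStrictlyLE_iff F _).2 fun i hi => hFb i hi
  haveI : ∀ i, Projective (F.X i) := fun i => by
    haveI := hFf i
    exact ModuleCat.projective_of_free (Module.Free.chooseBasis A (F.X i))
  haveI : F.IsKProjective := CochainComplex.isKProjective_of_projective F (d : ℤ)
  let Fb : CochainComplex (ModuleCat.{u} B) ℤ := ((ModuleCat.extendScalars.{u, u, u} φ).mapHomologicalComplex (ComplexShape.up ℤ)).obj F
  haveI : Fb.IsStrictlyLE (d : ℤ) := (CochainComplex.isStrictlyLE_iff Fb _).2 fun i hi =>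
    (ModuleCat.extendScalars.{u, u, u} φ).map_isZero (hFb i hi)
  haveI : ∀ i, Projective (Fb.X i) := fun i => by
    haveI := free_extCx φ i (hFf i)
    exact ModuleCat.projective_of_free (Module.Free.chooseBasis B (Fb.X i))
  haveI : Fb.IsKProjective := CochainComplex.isKProjective_of_projective Fb (d : ℤ)
  -- `Q Fb` has cohomology in degrees `≤ c`
  haveI hle : (DerivedCategory.Q.obj Fb).IsLE (c : ℤ) := by
    obtain ⟨R₀, u₀, hu₀, hu₀'⟩ := LcCxLib.isCoref_lBase_exists φ l (Dual.inD A A)
    obtain ⟨e₀, -⟩ := hu.exists_iso hu₀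
    obtain ⟨a⟩ := Groth.Agent.S8934.exists_lBase_inD φ
    have hspan : Ideal.span {b | b ∈ l.map φ} = I' := by
      show _ = I.map φ
      rw [← hl, Ideal.map_span]
      congr 1
      ext b
      simp [List.mem_map]
    have hv : IsCoref (l.map φ) ((DRing.LBaseChange φ).map u₀ ≫ a.hom) := by
      refine ⟨hu₀'.1, fun T hT => ?_⟩
      have hb := (Iso.homToEquiv a (Z := T)).bijective.comp (hu₀'.2 T hT)
      convert hb using 1
      funext t
      simp [Iso.homToEquiv]
    haveI := LcCompLib.isLE_coref (A := B) (I := I') hc hspan hv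
    exact DerivedCategory.TStructure.t.isLE_of_iso (((DRing.LBaseChange φ).mapIso (eR ≪≫ e₀)).symm ≪≫
      lBaseChangeObjIso φ F (isKFlat_of_free F (d : ℤ) hFb hFf)) (c : ℤ)
  obtain ⟨eN⟩ := Groth.Agent.S7084.nonempty_res_overQuot P N hN
  let N' := Groth.Agent.S7084.overQuot P N hN
  let WA := (HomologicalComplex.single (ModuleCat.{u} A) (ComplexShape.up ℤ) j).obj N
  let WB := (HomologicalComplex.single (ModuleCat.{u} B) (ComplexShape.up ℤ) j).obj N'
  let eW : ((ModuleCat.restrictScalars.{u} φ).mapHomologicalComplex (ComplexShape.up ℤ)).obj WB ≅ WA :=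
    (HomologicalComplex.singleMapHomologicalComplex (ModuleCat.restrictScalars.{u} φ) (ComplexShape.up ℤ) j).app N' ≪≫
      (HomologicalComplex.single _ _ j).mapIso eN
  let qA := DerivedCategory.quotientCompQhIso (ModuleCat.{u} A)
  obtain ⟨g₁, hg₁⟩ := (CochainComplex.IsKProjective.Qh_map_bijective F
    ((HomotopyCategory.quotient _ _).obj WA)).2 (qA.hom.app F ≫ eR.hom ≫ g ≫
      (DerivedCategory.singleFunctorIsoCompQ (ModuleCat.{u} A) j).hom.app N ≫ qA.inv.app WA)
  obtain ⟨f₀, rfl⟩ := (HomotopyCategory.quotient _ _).map_surjective g₁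
  let adj := DerLib.KInjDerived.mapHomologicalComplexAdj (ModuleCat.extendRestrictScalarsAdj.{u, u, u} φ)
    (ComplexShape.up ℤ)
  let f₁ : Fb ⟶ WB := (adj.homEquiv F WB).symm (f₀ ≫ eW.inv)
  have h1 : (HomotopyCategory.quotient (ModuleCat.{u} B) (ComplexShape.up ℤ)).map f₁ = 0 := by
    apply (CochainComplex.IsKProjective.Qh_map_bijective Fb _).1
    rw [Functor.map_zero]
    haveI : (DerivedCategory.Q.obj WB).IsGE j := DerivedCategory.TStructure.t.isGE_of_iso
      ((DerivedCategory.singleFunctorIsoCompQ (ModuleCat.{u} B) j).app N') j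
    have h0 : DerivedCategory.Q.map f₁ = 0 := DerivedCategory.TStructure.t.zero _ (c : ℤ) j hj
    rw [← cancel_mono ((DerivedCategory.quotientCompQhIso (ModuleCat.{u} B)).hom.app WB), zero_comp]
    exact ((DerivedCategory.quotientCompQhIso (ModuleCat.{u} B)).hom.naturality f₁).trans
      ((congrArg (_ ≫ ·) h0).trans comp_zero)
  have h2 := map_eq_zero_of_adj φ f₁ (f₀ ≫ eW.inv) (Equiv.apply_symm_apply _ _).symm h1
  have h3 : (HomotopyCategory.quotient (ModuleCat.{u} A) (ComplexShape.up ℤ)).map f₀ = 0 := by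
    rw [← cancel_mono ((HomotopyCategory.quotient (ModuleCat.{u} A) (ComplexShape.up ℤ)).map eW.inv),
      zero_comp, ← Functor.map_comp]
    exact h2
  rw [h3, Functor.map_zero] at hg₁
  rw [← cancel_epi (qA.app F ≪≫ eR).hom,
    ← cancel_mono ((DerivedCategory.singleFunctorIsoCompQ (ModuleCat.{u} A) j).app N ≪≫ (qA.app WA).symm).hom]
  simp only [Iso.trans_hom, Iso.app_hom, Iso.symm_hom, Iso.app_inv, Category.assoc, comp_zero, zero_comp]
  exact hg₁.symm

end LcAlgLib

end
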