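import Groth.Agent.LcAlgLib.CdQuot
import Groth.Agent.LcAlgLib.SingleVan
import Groth.Agent.LcAlgLib.Kills
import Groth.Agent.DualCxLib.LocDualGor
import Groth.Agent.DualCxLib.LocDualApps
import Groth.Agent.LcFinLib.Main

/-!
Annihilation of the completion of `RΓ_m M` outside a prime, in the algebraization situation.
-/

set_option autoImplicit false
set_option linter.style.haveILetI false
set_option maxHeartbeats 1600000

universe u

open CategoryTheory CategoryTheory.Limits LocCoh
open CategoryTheory.Pretriangulated (Triangle)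

attribute [local instance] HasDerivedCategory.standard

noncomputable section

namespace LcAlgLib

open Groth.Agent Groth.Agent.DRingLib Groth.Agent.DualCxLib

variable {A : Type u} [CommRing A] [IsLocalRing A] [IsNoetherianRing A]

theorem exists_normalized {ω : Dual.D A} (hω : Dual.IsDualizing A ω) :
    ∃ ω' : Dual.D A, Dual.IsDualizing A ω' ∧ Dual.IsNormalized A ω' := by
  obtain ⟨N, hN, -⟩ := ext_residueField_single_degree ω hω (IsLocalRing.maximalIdeal A)
  refine ⟨ω⟦N⟧, isDualizing_shift hω N, fun i hi => ?_⟩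
  exact (((Iso.refl _).homCongr (shift₂ ω N i (N + i) rfl))).subsingleton_congr.2 (hN _ (by omega))

theorem single_shift_iso (N : ModuleCat.{u} A) (k : ℤ) :
    Nonempty (((DerivedCategory.singleFunctor (ModuleCat.{u} A) 0).obj N)⟦-k⟧ ≅
      (DerivedCategory.singleFunctor (ModuleCat.{u} A) k).obj N) :=
  ⟨((DerivedCategory.singleFunctors (ModuleCat.{u} A)).shiftIso (-k) k 0 (by omega)).app N⟩

/-- A module supported over good primes gives good duals. -/
theorem good_dual {p : Ideal A} (hp : p.IsPrime) {R : Dual.D A} (m : ℤ) (E : Type u) [AddCommGroup E] [Module A E]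
    (hE : Module.Injective A E) (W : Type u) [AddCommGroup W] [Module A W] [Module.Finite A W]
    (hW : ∀ P ∈ Module.support A W, P.asIdeal ≤ p → ∀ N : ModuleCat.{u} A,
      (∀ r ∈ P.asIdeal, ∀ x : N, r • x = 0) → ∀ k : ℤ, m ≤ k →
        ∀ g : R ⟶ ((DerivedCategory.singleFunctor (ModuleCat.{u} A) 0).obj N)⟦-k⟧, g = 0) :
    Good R p m ((DerivedCategory.singleFunctor (ModuleCat.{u} A) 0).obj (ModuleCat.of A (W →ₗ[A] E))) := by
  revert hW
  induction ‹Module.Finite A W› using IsNoetherianRing.induction_on_isQuotientEquivQuotientPrime A with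
  | subsingleton N =>
    intro _
    haveI : Subsingleton (N →ₗ[A] E) :=
      ⟨fun a b => LinearMap.ext fun x => by rw [Subsingleton.elim x 0, map_zero, map_zero]⟩
    exact (devissable_good R hp m).zero
      ((DerivedCategory.singleFunctor (ModuleCat.{u} A) 0).map_isZero (ModuleCat.isZero_of_subsingleton _))
  | quotient N P e =>
    intro hW
    have hkill : ∀ r ∈ P.asIdeal, ∀ x : ModuleCat.of A (N →ₗ[A] E), r • x = 0 := fun r hr x =>
      LinearMap.ext fun y => by
        show r • x y = 0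
        rw [← map_smul, show r • y = 0 from e.injective (by
          rw [map_smul, map_zero]
          obtain ⟨z, hz⟩ := Ideal.Quotient.mk_surjective (e y)
          rw [← hz]
          exact (Ideal.Quotient.eq_zero_iff_mem.2 (P.asIdeal.mul_mem_right z hr) :
            Ideal.Quotient.mk P.asIdeal (r * z) = 0)), map_zero]
    by_cases hPp : P.asIdeal ≤ p
    · refine ⟨1, fun h1 => hp.ne_top ((Ideal.eq_top_iff_one p).2 h1), fun k hk g => ?_⟩
      rw [one_smul]
      refine hW P ?_ hPp _ hkill k hk g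
      rw [e.support_eq, Module.support_eq_zeroLocus, Ideal.annihilator_quotient]
      exact fun _ h => h
    · obtain ⟨f, hf, hfp⟩ := Set.not_subset.1 hPp
      refine ⟨f, hfp, fun k _ g => ?_⟩
      have h0 : f • 𝟙 (ModuleCat.of A (N →ₗ[A] E)) = 0 :=
        ModuleCat.hom_ext (LinearMap.ext fun x => hkill f hf x)
      rw [← Category.comp_id g, ← Linear.comp_smul, ← DerLib.NilpTest.smul_shift,
        ← CategoryTheory.Functor.map_id, ← Functor.map_smul, h0, Functor.map_zero, Functor.map_zero, comp_zero]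
  | exact N₁ N₂ N₃ a b ha hb hab h₁ h₃ =>
    intro hW
    let S : ShortComplex (ModuleCat.{u} A) := ShortComplex.mk (ModuleCat.ofHom (LinearMap.lcomp A E b))
      (ModuleCat.ofHom (LinearMap.lcomp A E a))
      (ModuleCat.hom_ext (LinearMap.ext fun φ => LinearMap.ext fun x => by
        show φ (b (a x)) = 0
        rw [hab.apply_apply_eq_zero, map_zero]))
    have hS : S.ShortExact :=
      { exact := (ShortComplex.moduleCat_exact_iff S).2 fun φ hφ => by
          have hk : LinearMap.ker b ≤ LinearMap.ker φ := fun x hx => by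
            obtain ⟨y, rfl⟩ := (hab x).1 hx
            exact LinearMap.congr_fun hφ y
          refine ⟨(LinearMap.ker b).liftQ φ hk ∘ₗ (LinearMap.quotKerEquivOfSurjective b hb).symm.toLinearMap,
            LinearMap.ext fun x => ?_⟩
          show (LinearMap.ker b).liftQ φ hk ((LinearMap.quotKerEquivOfSurjective b hb).symm (b x)) = φ x
          rw [(LinearEquiv.symm_apply_eq _).2 (LinearMap.quotKerEquivOfSurjective_apply_mk _ _ x).symm]
          rfl
        mono_f := (ModuleCat.mono_iff_injective _).2 fun φ ψ h => (LinearMap.cancel_right hb).1 h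
        epi_g := (ModuleCat.epi_iff_surjective _).2 fun φ => by
          obtain ⟨ψ, hψ⟩ := hE.out a ha φ
          exact ⟨ψ, LinearMap.ext hψ⟩ }
    exact (devissable_good R hp m).ext hS.singleTriangle hS.singleTriangle_distinguished
      (h₃ fun P hP => hW P (Module.support_subset_of_surjective b hb hP))
      (h₁ fun P hP => hW P (Module.support_subset_of_injective a ha hP))

/-- The annihilation outside a prime whose generizations satisfy the depth alternatives. -/
theorem exists_notMem_smul_completion (I : Ideal A) [IsAdicComplete I A] [DRing.HasDerivedCompletion I]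
    [DRing.HasRgammaI (IsLocalRing.maximalIdeal A)] (hdc : ∃ ω : Dual.D A, Dual.IsDualizing A ω)
    (M : Type u) [AddCommGroup M] [Module A M] [Module.Finite A M] (s d : ℕ) (hd : LocCoh.CdLE A I d)
    (p : PrimeSpectrum A)
    (hp : ∀ P : PrimeSpectrum A, P ≤ p →
      (∃ r : PrimeSpectrum A, P ≤ r ∧ I ≤ r.asIdeal ∧ r.asIdeal ≠ IsLocalRing.maximalIdeal A) ∧
      ((s : ℕ∞) ≤ LocCoh.depth (Localization.AtPrime P.asIdeal) (LocalizedModule P.asIdeal.primeCompl M) ∨
        (((d + s : ℕ) : ℕ∞) : WithBot ℕ∞) < ((LocCoh.depth (Localization.AtPrime P.asIdeal)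
          (LocalizedModule P.asIdeal.primeCompl M) : ℕ∞) : WithBot ℕ∞) + ringKrullDim (A ⧸ P.asIdeal))) :
    ∃ f : A, f ∉ p.asIdeal ∧ ∀ i : ℤ, i ≤ s → ∀ x : Dual.HD A ((cF I).obj
      ((DRing.RgammaI (IsLocalRing.maximalIdeal A)).obj (Dual.inD A M))) i, f • x = 0 := by
  obtain ⟨ω₀, hω₀⟩ := hdc
  obtain ⟨ω, hω, hn⟩ := exists_normalized hω₀
  obtain ⟨E, _, _, e₀, he⟩ := InjHullLib.exists_injectiveHull (R := A) (IsLocalRing.ResidueField A)
  obtain ⟨l, hl⟩ := exists_list_span' I
  have hl' : ∀ g ∈ l, g ∈ I := fun g hg => hl ▸ Ideal.subset_span hg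
  obtain ⟨R, u, hu, hperp⟩ := Groth.Agent.S1814.exists_coref_perp l hl' (Dual.inD A A)
  haveI hRle : R.IsLE (d : ℤ) := LcCompLib.isLE_coref hd hl hu
  obtain ⟨hb, hneg⟩ := LcCompLib.nonempty_HD_RgammaI_inD (IsLocalRing.maximalIdeal A) M
  set X := (DRing.RgammaI (IsLocalRing.maximalIdeal A)).obj (Dual.inD A M)
  let t : ℕ := d + s
  obtain ⟨X₁, X₂, hX₁, hX₂, a, b, δ, hT⟩ :=
    DerivedCategory.TStructure.t.exists_triangle X (t : ℤ) ((t : ℤ) + 1) rfl
  haveI hX₁le : X₁.IsLE (t : ℤ) := ⟨hX₁⟩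
  haveI hX₂ge : X₂.IsGE ((t : ℤ) + 1) := ⟨hX₂⟩
  have ha : ∀ j, j ≤ (t : ℤ) → IsIso ((Hn A j).map a) := fun j hj => by
    have := (DerivedCategory.HomologySequence.mono_homologyMap_mor₁_iff _ hT (j - 1) j
      (by omega)).mpr ((DerivedCategory.isZero_of_isGE X₂ ((t : ℤ) + 1) (j - 1) (by omega)).eq_of_src _ _)
    have := (DerivedCategory.HomologySequence.epi_homologyMap_mor₁_iff _ hT j).mpr
      ((DerivedCategory.isZero_of_isGE X₂ ((t : ℤ) + 1) j (by omega)).eq_of_tgt _ _)
    exact isIso_of_mono_of_epi ((Hn A j).map (Triangle.mk a b δ).mor₁)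
  have hzero : ∀ j : ℤ, (j < 0 ∨ (t : ℤ) < j) → IsZero ((Hn A j).obj X₁) := fun j hj => by
    rcases hj with hj | hj
    · haveI := ha j (by omega)
      haveI := hneg j hj
      exact (ModuleCat.isZero_of_subsingleton ((Hn A j).obj X)).of_iso (asIso ((Hn A j).map a))
    · exact DerivedCategory.isZero_of_isLE X₁ (t : ℤ) j hj
  have hgood : Good R p.asIdeal (-(s : ℤ)) X₁ := by
    refine (devissable_good R p.isPrime _).of_homology 0 (t + 1) X₁ (fun j hj => hzero j (by omega)) fun j => ?_
    by_cases hj : j < 0 ∨ (t : ℤ) < j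
    · exact (devissable_good R p.isPrime _).zero
        ((DerivedCategory.singleFunctor (ModuleCat.{u} A) j).map_isZero (hzero j hj))
    obtain ⟨i, rfl⟩ : ∃ i : ℕ, j = i := ⟨j.toNat, by omega⟩
    haveI := ha i (by omega)
    obtain ⟨eH⟩ := hb i
    obtain ⟨W, _, _, _, ⟨eW⟩, ⟨eD⟩⟩ := exists_model_duality hω hn he M i
    let eM : (Hn A (i : ℤ)).obj X₁ ≅ ModuleCat.of A (W →ₗ[A] E) :=
      asIso ((Hn A (i : ℤ)).map a) ≪≫ (eH.trans eD).toModuleIso
    obtain ⟨eS⟩ := single_shift_iso (ModuleCat.of A (W →ₗ[A] E)) (i : ℤ)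
    refine (devissable_good R p.isPrime _).iso
      (eS ≪≫ (DerivedCategory.singleFunctor (ModuleCat.{u} A) (i : ℤ)).mapIso eM.symm)
      (Good.of_shift (i : ℤ) (good_dual p.isPrime _ E he.isInjective W fun P hPW hPp N hN k hk g => ?_))
    have hnv : ¬ Van P.asIdeal (Ext ω (ModuleCat.of A M) (-(i : ℤ))) := fun hv => by
      obtain ⟨x, hx⟩ := Module.mem_support_iff'.1 hPW
      obtain ⟨c, hc, hcx⟩ := hv (eW x)
      exact hx c hc (eW.injective ((map_smul eW c x).trans (hcx.trans (map_zero eW).symm)))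
    have hclosed := deg_closedPt_of_normalized hω hn
    have hdeg := (deg_strictMono hω).monotone (le_closedPt P)
    obtain ⟨δ, hδ⟩ : ∃ δ : ℕ, deg hω P - (δ : ℤ) = -(i : ℤ) := by
      refine ⟨(deg hω P + i).toNat, ?_⟩
      by_contra hne
      exact hnv (van_of_gt hω P _ (by omega))
    have hdepth : LocCoh.depth (Localization.AtPrime P.asIdeal) (LocalizedModule P.asIdeal.primeCompl M) ≤ (δ : ℕ∞) := by
      by_contra hcon
      rw [not_le] at hcon
      have h2 := (le_depth_iff_van hω P (δ + 1) M).1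
        (by rw [Nat.cast_add, Nat.cast_one]; exact Order.add_one_le_of_lt hcon) δ (Nat.lt_succ_self _)
      rw [hδ] at h2
      exact hnv h2
    obtain ⟨⟨r, hPr, hIr, hr⟩, halt⟩ := hp P hPp
    let n := (deg hω (closedPt A) - deg hω P).toNat
    have hdim : ringKrullDim (A ⧸ P.asIdeal) = n := ringKrullDim_quotient_eq hω P
    have hrlt : r < closedPt A :=
      lt_of_le_of_ne (le_closedPt r) fun h => hr (congrArg PrimeSpectrum.asIdeal h)
    have hnpos : 1 ≤ n := by
      have h1 := (deg_strictMono hω) (lt_of_le_of_lt hPr hrlt)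
      omega
    obtain ⟨e, he'⟩ := ENat.ne_top_iff_exists.1 (ne_top_of_le_ne_top (ENat.natCast_ne_top δ) hdepth)
    rw [← he', Nat.cast_le] at hdepth
    have hjn : n + s ≤ i := by
      rcases halt with h | h
      · rw [← he', Nat.cast_le] at h
        omega
      · rw [← he', hdim] at h
        have h' : d + s < e + n := by
          change (((d + s : ℕ) : ℕ∞) : WithBot ℕ∞) < (((e : ℕ∞) + (n : ℕ∞) : ℕ∞) : WithBot ℕ∞) at h
          rw [WithBot.coe_lt_coe] at h
          exact_mod_cast h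
        omega
    obtain ⟨eN⟩ := single_shift_iso N k
    rw [← cancel_mono eN.hom, zero_comp]
    exact hom_eq_zero_of_killed P.asIdeal hd (cdLE_quotient I hω P r hPr hIr hr n hdim) hl hu N hN k
      (by omega) _
  obtain ⟨f, hf, hfk⟩ := hgood
  refine ⟨f, hf, fun i hi x => smul_completion_eq_zero hl hu hperp f X i (fun w => ?_) x⟩
  haveI : (X₂⟦i⟧).IsGE ((t : ℤ) + 1 - i) :=
    DerivedCategory.TStructure.t.isGE_shift X₂ ((t : ℤ) + 1) i _ (by omega)
  have hzero' : w ≫ b⟦i⟧' = 0 :=
    DerivedCategory.TStructure.t.zero _ (d : ℤ) ((t : ℤ) + 1 - i) (by omega)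
  obtain ⟨w', hw'⟩ := Triangle.coyoneda_exact₂ _ (Triangle.shift_distinguished _ hT i) w (by
    change w ≫ (i.negOnePow • b⟦i⟧') = 0
    rw [Linear.comp_units_smul, hzero', smul_zero])
  rw [hw']
  show f • (w' ≫ (i.negOnePow • a⟦i⟧')) = 0
  have h1 : f • w' = 0 := by
    have key : ∀ j : ℤ, j = i → ∀ w₁ : R ⟶ X₁⟦j⟧, f • w₁ = 0 := fun j hj w₁ => by
      obtain ⟨k, rfl⟩ : ∃ k, j = -k := ⟨-j, (neg_neg j).symm⟩
      exact hfk k (by omega) w₁
    exact key i rfl w'
  rw [← Linear.smul_comp, h1, zero_comp]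

end LcAlgLib

end
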